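import Mathlib

/-! An irreducible abelian group of automorphisms of a finite abelian group generates a field. -/

namespace Cfsg.Agent.Lib.ExtPrim.EndField

/-- The ring of endomorphisms generated by the image of a map. -/
def genRing {A V : Type*} [AddCommGroup A] (ρ : V → AddMonoid.End A) : Subring (AddMonoid.End A) :=
  Subring.closure (Set.range ρ)

section Galois

variable (R : Type*) [Field R] [Finite R] (p d : ℕ) [Fact p.Prime] [CharP R p]

theorem exists_cyclic_gen {H : Type*} [Group H] (hcard : Nat.card R = p ^ d) (θ : H →* RingAut R) :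
    ∃ (h : H) (k : ℕ), k ∣ d ∧ Nat.card H = k * Nat.card θ.ker ∧
      ∀ x : H, ∃ i : ℤ, x * (h ^ i)⁻¹ ∈ θ.ker := by
  classical
  letI := ZMod.algebra R p
  let η : RingAut R →* Gal(R/ZMod p) :=
    { toFun := fun e => AlgEquiv.ofRingEquiv (f := e)
        (fun x => RingHom.congr_fun
          (RingHom.ext_zmod ((e : R →+* R).comp (algebraMap (ZMod p) R)) (algebraMap (ZMod p) R)) x)
      map_one' := AlgEquiv.ext fun _ => rfl
      map_mul' := fun _ _ => AlgEquiv.ext fun _ => rfl }
  have hη : Function.Injective η := fun a b h => RingEquiv.ext fun x => AlgEquiv.congr_fun h x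
  let ψ : H →* Gal(R/ZMod p) := η.comp θ
  have hker : ψ.ker = θ.ker := by
    ext x
    simp only [MonoidHom.mem_ker, ψ, MonoidHom.comp_apply]
    exact ⟨fun h => hη (by rw [h, map_one]), fun h => by rw [h, map_one]⟩
  have hd : Nat.card Gal(R/ZMod p) = d := by
    rw [IsGalois.card_aut_eq_finrank]
    have h : Nat.card R = Nat.card (ZMod p) ^ Module.finrank (ZMod p) R := Module.natCard_eq_pow_finrank
    rw [Nat.card_zmod, hcard] at h
    exact (Nat.pow_right_injective (Fact.out : p.Prime).two_le h).symm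
  obtain ⟨⟨_, ⟨h, rfl⟩⟩, hg⟩ := IsCyclic.exists_generator (α := ψ.range)
  refine ⟨h, Nat.card ψ.range, hd ▸ Subgroup.card_subgroup_dvd_card _, ?_, fun x => ?_⟩
  · rw [← hker, ← Subgroup.index_ker, Subgroup.index_mul_card]
  · obtain ⟨i, hi⟩ := Subgroup.mem_zpowers_iff.1 (hg ⟨ψ x, x, rfl⟩)
    refine ⟨i, ?_⟩
    rw [← hker, MonoidHom.mem_ker, map_mul, map_inv, map_zpow]
    have h1 : ψ h ^ i = ψ x := congrArg Subtype.val hi
    rw [h1, mul_inv_cancel]

theorem le_of_generators_fixed {q i : ℕ} (hcard : Nat.card R = p ^ d) (S : Set R)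
    (hS : Subring.closure S = ⊤) (hq : ∀ s ∈ S, s ^ q = 1) (hdvd : q ∣ p ^ i - 1) (hi : 0 < i) :
    d ≤ i := by
  classical
  have hp := (Fact.out : p.Prime)
  haveI : ExpChar R p := ExpChar.prime hp
  have hpi : 1 ≤ p ^ i := Nat.one_le_pow _ _ hp.pos
  have hall : iterateFrobenius R p i = RingHom.id R := by
    refine RingHom.eq_of_eqOn_set_top fun x _ => ?_
    have hx : x ∈ Subring.closure S := hS ▸ Subring.mem_top x
    refine RingHom.eqOn_set_closure (fun s hs => ?_) hx
    obtain ⟨c, hc⟩ := hdvd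
    show iterateFrobenius R p i s = s
    rw [iterateFrobenius_def, show p ^ i = q * c + 1 by omega, pow_succ, pow_mul, hq s hs, one_pow,
      one_mul]
  obtain ⟨g, hg⟩ := IsCyclic.exists_generator (α := Rˣ)
  have hord : orderOf g = p ^ d - 1 := by
    rw [orderOf_eq_card_of_forall_mem_zpowers hg, Nat.card_units, hcard]
  have h1 : g ^ (p ^ i - 1) = 1 := by
    have h2 : (g : R) ^ (p ^ i) = g := by
      rw [← iterateFrobenius_def, hall, RingHom.id_apply]
    refine mul_right_cancel (b := g) ?_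
    rw [one_mul, ← pow_succ, Nat.sub_add_cancel hpi]
    exact Units.ext (by rw [Units.val_pow_eq_pow_val, h2])
  have h3 : p ^ d - 1 ∣ p ^ i - 1 := hord ▸ orderOf_dvd_of_pow_eq_one h1
  have h4 : p ^ d ≤ p ^ i := by
    have h5 : 1 < p ^ i := Nat.one_lt_pow hi.ne' hp.one_lt
    have := Nat.le_of_dvd (by omega) h3
    omega
  exact (Nat.pow_le_pow_iff_right hp.one_lt).1 h4

end Galois

variable {A : Type*} [AddCommGroup A] [Finite A]
variable {V : Type*} [Group V]
variable (ρ : V →* AddMonoid.End A)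

theorem genRing_comm (hcomm : ∀ a b : V, a * b = b * a) :
    ∀ r ∈ genRing ρ, ∀ s ∈ genRing ρ, r * s = s * r := by
  have h1 : genRing ρ ≤ Subring.centralizer (Set.range ρ) := by
    refine Subring.closure_le.2 ?_
    rintro _ ⟨a, rfl⟩ _ ⟨b, rfl⟩
    rw [← map_mul, ← map_mul, hcomm]
  intro r hr s hs
  have h2 : genRing ρ ≤ Subring.centralizer (genRing ρ : Set (AddMonoid.End A)) := by
    refine Subring.closure_le.2 ?_
    intro x hx y hy
    exact ((Subring.mem_centralizer_iff.1 (h1 hy)) x hx).symm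
  exact (Subring.mem_centralizer_iff.1 (h2 hr) s hs).symm ▸ rfl

theorem genRing_injective (hcomm : ∀ a b : V, a * b = b * a)
    (hirr : ∀ B : AddSubgroup A, (∀ v : V, ∀ x ∈ B, ρ v x ∈ B) → B = ⊥ ∨ B = ⊤)
    {r : AddMonoid.End A} (hr : r ∈ genRing ρ) (h0 : r ≠ 0) : Function.Injective r := by
  have hker : AddMonoidHom.ker (r : A →+ A) = ⊥ := by
    refine (hirr _ fun v x hx => ?_).resolve_right fun h => h0 (AddMonoidHom.ext fun x => ?_)
    · have hx : r x = 0 := hx
      show r (ρ v x) = 0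
      have := genRing_comm ρ hcomm r hr (ρ v) (Subring.subset_closure ⟨v, rfl⟩)
      show (r * ρ v) x = 0
      rw [this]
      show ρ v (r x) = 0
      rw [hx, map_zero]
    · have hx : x ∈ AddMonoidHom.ker (r : A →+ A) := h ▸ AddSubgroup.mem_top x
      exact hx
  exact (AddMonoidHom.ker_eq_bot_iff (r : A →+ A)).1 hker

theorem card_genRing (hcomm : ∀ a b : V, a * b = b * a) [Nontrivial A]
    (hirr : ∀ B : AddSubgroup A, (∀ v : V, ∀ x ∈ B, ρ v x ∈ B) → B = ⊥ ∨ B = ⊤) :
    Nat.card (genRing ρ) = Nat.card A := by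
  obtain ⟨a, ha⟩ := exists_ne (0 : A)
  let ev : genRing ρ →+ A :=
    { toFun := fun r => (r : AddMonoid.End A) a
      map_zero' := rfl
      map_add' := fun _ _ => rfl }
  refine Nat.card_eq_of_bijective ev ⟨(injective_iff_map_eq_zero ev).2 fun r hr => ?_, ?_⟩
  · by_contra hne
    have h : Function.Injective (r : AddMonoid.End A) :=
      genRing_injective ρ hcomm hirr r.2 fun h => hne (Subtype.ext h)
    exact ha (h (hr.trans (map_zero (r : AddMonoid.End A)).symm))
  · rw [← AddMonoidHom.range_eq_top]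
    refine (hirr _ fun v x hx => ?_).resolve_left fun h => ha ?_
    · obtain ⟨r, rfl⟩ := hx
      exact ⟨⟨ρ v * r, Subring.mul_mem _ (Subring.subset_closure ⟨v, rfl⟩) r.2⟩, rfl⟩
    · have : a ∈ ev.range := ⟨1, rfl⟩
      rwa [h, AddSubgroup.mem_bot] at this

/-- The generated ring is a field. -/
theorem genRing_isField (hcomm : ∀ a b : V, a * b = b * a) [Nontrivial A]
    (hirr : ∀ B : AddSubgroup A, (∀ v : V, ∀ x ∈ B, ρ v x ∈ B) → B = ⊥ ∨ B = ⊤) :
    IsField (genRing ρ) := by
  classical
  haveI : Finite (AddMonoid.End A) := Finite.of_injective (fun f => (f : A → A)) DFunLike.coe_injective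
  letI : CommRing (genRing ρ) :=
    { (genRing ρ).toRing with mul_comm := fun r s => Subtype.ext (genRing_comm ρ hcomm r r.2 s s.2) }
  haveI : NoZeroDivisors (genRing ρ) := by
    refine ⟨fun {r s} h => or_iff_not_imp_left.2 fun hr => Subtype.ext (AddMonoidHom.ext fun x => ?_)⟩
    have hinj : Function.Injective (r : AddMonoid.End A) :=
      genRing_injective ρ hcomm hirr r.2 fun e => hr (Subtype.ext e)
    have h' : ((r * s : genRing ρ) : AddMonoid.End A) x = (0 : AddMonoid.End A) x := by rw [h]; rfl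
    exact hinj (h'.trans (map_zero (r : AddMonoid.End A)).symm)
  haveI : Nontrivial (genRing ρ) := by
    refine ⟨⟨1, 0, fun h => ?_⟩⟩
    obtain ⟨a, ha⟩ := exists_ne (0 : A)
    exact ha (congrArg (fun r : genRing ρ => (r : AddMonoid.End A) a) h)
  haveI : IsDomain (genRing ρ) := NoZeroDivisors.to_isDomain _
  letI := Fintype.ofFinite (genRing ρ)
  exact Finite.isField_of_domain (genRing ρ)

/-- A group with an irreducible abelian self-centralising normal subgroup of prime exponent. -/
theorem semilinear {H : Type*} [Group H] [Finite H] {A : Type*} [AddCommGroup A] [Finite A] [Nontrivial A]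
    (p d q : ℕ) [Fact p.Prime] (hq : q.Prime) (hA : Nat.card A = p ^ d) (hexp : ∀ a : A, p • a = 0)
    (ρ : H →* AddMonoid.End A) (hρ : Function.Injective ρ)
    (W : Subgroup H) [hWn : W.Normal] (hW : W ≠ ⊥) (hcomm : ∀ a b : W, a * b = b * a)
    (hWq : ∀ a : W, a ^ q = 1) (hself : ∀ c : H, (∀ w ∈ W, c * w = w * c) → c ∈ W)
    (hirr : ∀ B : AddSubgroup A, (∀ w : W, ∀ x ∈ B, ρ w x ∈ B) → B = ⊥ ∨ B = ⊤) :
    Nat.card W = q ∧ q ∣ p ^ d - 1 ∧ (∀ i, 0 < i → i < d → ¬ q ∣ p ^ i - 1) ∧
      ∃ h : H, (∀ x : H, ∃ i : ℤ, x * (h ^ i)⁻¹ ∈ W) ∧ Nat.card H ∣ q * d := by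
  classical
  let σ : W →* AddMonoid.End A := ρ.comp W.subtype
  let R := genRing σ
  haveI : Finite (AddMonoid.End A) := Finite.of_injective (fun f => (f : A → A)) DFunLike.coe_injective
  have hR : IsField R := genRing_isField σ hcomm hirr
  have hcard : Nat.card R = p ^ d := (card_genRing σ hcomm hirr).trans hA
  letI : Field R := hR.toField
  haveI : CharP R p := (CharP.charP_iff_prime_eq_zero (Fact.out : p.Prime)).2 (by
    refine Subtype.ext (AddMonoidHom.ext fun x => ?_)
    show ((p : R) : AddMonoid.End A) x = (0 : AddMonoid.End A) x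
    rw [show ((p : R) : AddMonoid.End A) = (p : AddMonoid.End A) from rfl, AddMonoid.End.natCast_apply,
      hexp]
    rfl)
  let ι : W →* R :=
    { toFun := fun w => ⟨σ w, Subring.subset_closure ⟨w, rfl⟩⟩
      map_one' := Subtype.ext (map_one σ)
      map_mul' := fun a b => Subtype.ext (map_mul σ a b) }
  have hι : Function.Injective ι := fun a b h =>
    Subtype.ext (hρ (congrArg Subtype.val h : σ a = σ b))
  have hcyc : IsCyclic W := isCyclic_of_subgroup_isDomain ι hι
  have hWcard : Nat.card W = q := by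
    obtain ⟨g, hg⟩ := hcyc.exists_generator
    rw [← orderOf_eq_card_of_forall_mem_zpowers hg]
    refine (hq.eq_one_or_self_of_dvd _ (orderOf_dvd_of_pow_eq_one (hWq g))).resolve_left fun h => hW ?_
    rw [orderOf_eq_one_iff] at h
    refine (Subgroup.eq_bot_iff_forall _).2 fun x hx => ?_
    have h2 := hg ⟨x, hx⟩
    rw [h, Subgroup.zpowers_one_eq_bot, Subgroup.mem_bot] at h2
    exact congrArg Subtype.val h2
  -- the action of `H` on `R` by conjugation
  have hmem : ∀ (h : H) (r : AddMonoid.End A), r ∈ R → ρ h * r * ρ h⁻¹ ∈ R := by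
    intro h r hr
    induction hr using Subring.closure_induction with
    | mem x hx =>
      obtain ⟨w, rfl⟩ := hx
      show ρ h * ρ w * ρ h⁻¹ ∈ R
      rw [← map_mul, ← map_mul]
      exact Subring.subset_closure ⟨⟨h * w * h⁻¹, hWn.conj_mem w w.2 h⟩, rfl⟩
    | zero => rw [mul_zero, zero_mul]; exact R.zero_mem
    | one => rw [mul_one, ← map_mul, mul_inv_cancel, map_one]; exact R.one_mem
    | add x y _ _ hx hy => rw [mul_add, add_mul]; exact R.add_mem hx hy
    | neg x _ hx => rw [mul_neg, neg_mul]; exact R.neg_mem hx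
    | mul x y _ _ hx hy =>
      have : ρ h * (x * y) * ρ h⁻¹ = (ρ h * x * ρ h⁻¹) * (ρ h * y * ρ h⁻¹) := by
        simp only [mul_assoc]
        rw [← mul_assoc (ρ h⁻¹) (ρ h), ← map_mul, inv_mul_cancel, map_one, one_mul]
      rw [this]; exact R.mul_mem hx hy
  let c : H → R →+* R := fun h =>
    { toFun := fun r => ⟨ρ h * r * ρ h⁻¹, hmem h r r.2⟩
      map_one' := Subtype.ext (by simp [← map_mul])
      map_mul' := fun a b => Subtype.ext (by
        show ρ h * ((a : AddMonoid.End A) * b) * ρ h⁻¹ = (ρ h * a * ρ h⁻¹) * (ρ h * b * ρ h⁻¹)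
        simp only [mul_assoc]
        rw [← mul_assoc (ρ h⁻¹) (ρ h), ← map_mul, inv_mul_cancel, map_one, one_mul])
      map_zero' := Subtype.ext (by simp)
      map_add' := fun a b => Subtype.ext (by
        show ρ h * ((a : AddMonoid.End A) + b) * ρ h⁻¹ = ρ h * a * ρ h⁻¹ + ρ h * b * ρ h⁻¹
        rw [mul_add, add_mul]) }
  have hc1 : ∀ r, c 1 r = r := fun r => Subtype.ext (by simp [c])
  have hcm : ∀ a b r, c (a * b) r = c a (c b r) := fun a b r => Subtype.ext (by
    simp [c, mul_assoc])
  let θ : H →* RingAut R :=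
    { toFun := fun h => RingEquiv.ofRingHom (c h) (c h⁻¹)
        (RingHom.ext fun r => by rw [RingHom.comp_apply, ← hcm, mul_inv_cancel, hc1]; rfl)
        (RingHom.ext fun r => by rw [RingHom.comp_apply, ← hcm, inv_mul_cancel, hc1]; rfl)
      map_one' := RingEquiv.ext fun r => hc1 r
      map_mul' := fun a b => RingEquiv.ext fun r => hcm a b r }
  have hker : θ.ker = W := by
    ext x
    rw [MonoidHom.mem_ker]
    constructor
    · intro hx
      refine hself x fun w hw => ?_
      have h1 := congrArg Subtype.val (RingEquiv.congr_fun hx ⟨σ ⟨w, hw⟩, Subring.subset_closure ⟨⟨w, hw⟩, rfl⟩⟩)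
      change ρ x * ρ w * ρ x⁻¹ = ρ w at h1
      rw [← map_mul, ← map_mul] at h1
      exact mul_inv_eq_iff_eq_mul.1 (hρ h1)
    · intro hx
      refine RingEquiv.ext fun r => Subtype.ext ?_
      show ρ x * r * ρ x⁻¹ = r
      rw [genRing_comm σ hcomm (ρ x) (Subring.subset_closure ⟨⟨x, hx⟩, rfl⟩) r r.2, mul_assoc,
        ← map_mul, mul_inv_cancel, map_one, mul_one]
  obtain ⟨h, k, hk, hH, hgen⟩ := exists_cyclic_gen R p d hcard θ
  refine ⟨hWcard, ?_, ?_, h, ?_, ?_⟩
  · let u : W →* Rˣ := ι.toHomUnits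
    have hu : Function.Injective u := fun a b h => hι (congrArg Units.val h)
    rw [← hWcard, ← hcard, ← Nat.card_units]
    exact Subgroup.card_dvd_of_injective u hu
  · intro i hi hid hdvd
    have hgenR : Subring.closure (Set.range ι) = ⊤ := by
      refine eq_top_iff.2 fun x _ => ?_
      have hx : (x : AddMonoid.End A) ∈ (Subring.closure (Set.range ι)).map R.subtype := by
        rw [RingHom.map_closure, ← Set.range_comp]
        exact x.2
      obtain ⟨y, hy, hyx⟩ := hx
      exact (Subtype.ext hyx : y = x) ▸ hy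
    have := le_of_generators_fixed R p d (q := q) hcard (Set.range ι) hgenR (by
      rintro _ ⟨w, rfl⟩
      rw [← map_pow, hWq, map_one]) hdvd hi
    omega
  · intro x; rw [← hker]; exact hgen x
  · rw [hH, hker, hWcard, mul_comm]
    exact Nat.mul_dvd_mul_left q hk

end Cfsg.Agent.Lib.ExtPrim.EndField
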