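import Mathlib

/-! Extremely primitive groups: a point stabiliser acts faithfully on each non-trivial suborbit. -/

namespace Cfsg.Agent.Lib.ExtPrim.Basic

open MulAction
open scoped Pointwise

variable {G : Type*} [Group G] {Ω : Type*} [MulAction G Ω]

theorem nontrivial_of_stabilizer_ne_bot [FaithfulSMul G Ω] {α : Ω} (hH : stabilizer G α ≠ ⊥) :
    Nontrivial Ω := by
  by_contra h
  rw [not_nontrivial_iff_subsingleton] at h
  exact hH ((Subgroup.eq_bot_iff_forall _).2 fun g _ =>
    eq_of_smul_eq_smul fun x : Ω => Subsingleton.elim _ _)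

/-- A subgroup of a stabiliser which is normal in the whole group is trivial. -/
theorem eq_bot_of_normal_le_stabilizer [IsPretransitive G Ω] [FaithfulSMul G Ω] {K : Subgroup G}
    [hK : K.Normal] {α : Ω} (hle : K ≤ stabilizer G α) : K = ⊥ := by
  refine (Subgroup.eq_bot_iff_forall _).2 fun k hk => eq_of_smul_eq_smul fun x : Ω => ?_
  obtain ⟨g, rfl⟩ := exists_smul_eq G α x
  have : (g⁻¹ * k * g) • α = α := hle (by simpa using hK.conj_mem k hk g⁻¹)
  rw [mul_smul, mul_smul, inv_smul_eq_iff] at this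
  rw [one_smul]; exact this

theorem normalizer_stabilizer [IsPreprimitive G Ω] [FaithfulSMul G Ω] {α : Ω}
    (hH : stabilizer G α ≠ ⊥) :
    Subgroup.normalizer (stabilizer G α : Set G) = stabilizer G α := by
  have := nontrivial_of_stabilizer_ne_bot hH
  rcases (IsPreprimitive.isCoatom_stabilizer_of_isPreprimitive G α).le_iff.1
    Subgroup.le_normalizer with h | h
  · have : (stabilizer G α).Normal := Subgroup.normalizer_eq_top_iff.1 h
    exact absurd (eq_bot_of_normal_le_stabilizer (α := α) le_rfl) hH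
  · exact h

theorem sup_stabilizer_eq_top [IsPreprimitive G Ω] [FaithfulSMul G Ω] {α β : Ω}
    (hH : stabilizer G α ≠ ⊥) (hne : α ≠ β) : stabilizer G α ⊔ stabilizer G β = ⊤ := by
  have := nontrivial_of_stabilizer_ne_bot hH
  have hco := IsPreprimitive.isCoatom_stabilizer_of_isPreprimitive G α
  rcases hco.le_iff.1 (le_sup_left : stabilizer G α ≤ stabilizer G α ⊔ stabilizer G β) with h | h
  · exact h
  · exfalso
    have hle : stabilizer G β ≤ stabilizer G α := h ▸ le_sup_right
    have heq : stabilizer G β = stabilizer G α := by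
      rcases (IsPreprimitive.isCoatom_stabilizer_of_isPreprimitive G β).le_iff.1 hle with h' | h'
      · exact absurd h' hco.1
      · exact h'.symm
    obtain ⟨g, hg⟩ := exists_smul_eq G α β
    have hgn : g ∈ Subgroup.normalizer (stabilizer G α : Set G) := by
      rw [Subgroup.mem_normalizer_iff]
      intro x
      conv_rhs => rw [← heq, mem_stabilizer_iff, ← hg, mul_smul, mul_smul, inv_smul_smul,
        smul_left_cancel_iff]
      exact Iff.rfl
    rw [normalizer_stabilizer hH, mem_stabilizer_iff, hg] at hgn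
    exact hne hgn.symm

/-- A proper non-empty set is not invariant under two different point stabilisers. -/
theorem eq_univ_of_invariant [IsPreprimitive G Ω] [FaithfulSMul G Ω] {α β : Ω}
    (hH : stabilizer G α ≠ ⊥) (hne : α ≠ β) {S : Set Ω} (hS : S.Nonempty)
    (h1 : stabilizer G α ≤ stabilizer G S) (h2 : stabilizer G β ≤ stabilizer G S) : S = Set.univ := by
  have htop : stabilizer G S = ⊤ :=
    top_le_iff.1 ((sup_stabilizer_eq_top hH hne).symm.le.trans (sup_le h1 h2))
  obtain ⟨s, hs⟩ := hS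
  refine Set.eq_univ_of_forall fun x => ?_
  obtain ⟨g, rfl⟩ := exists_smul_eq G s x
  have : g • S = S := mem_stabilizer_iff.1 (htop ▸ Subgroup.mem_top g)
  exact this ▸ Set.smul_mem_smul_set hs

theorem stabilizer_le_stabilizer_orbit (X : Subgroup G) (x : Ω) :
    X ≤ stabilizer G (orbit X x) := fun g hg => smul_orbit (⟨g, hg⟩ : X) x

variable (hep : ∀ (α ω : Ω), IsPreprimitive (stabilizer G α) (orbit (stabilizer G α) ω))

include hep

/-- A normal subgroup of a point stabiliser is transitive on every suborbit it does not fix. -/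
theorem orbit_eq_of_moves {α x : Ω} {K : Subgroup G} (hle : K ≤ stabilizer G α)
    (hn : stabilizer G α ≤ Subgroup.normalizer (K : Set G))
    (hx : ∃ k ∈ K, k • x ≠ x) : orbit K x = orbit (stabilizer G α) x := by
  apply Set.Subset.antisymm
  · rintro _ ⟨⟨k, hk⟩, rfl⟩
    exact ⟨⟨k, hle hk⟩, rfl⟩
  · haveI := hep α x
    haveI : (K.subgroupOf (stabilizer G α)).Normal :=
      (Subgroup.normal_subgroupOf_iff_le_normalizer hle).2 hn
    obtain ⟨k, hk, hkx⟩ := hx
    have hq : IsPretransitive (K.subgroupOf (stabilizer G α)) (orbit (stabilizer G α) x) := by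
      refine IsQuasiPreprimitive.isPretransitive_of_normal fun h => hkx ?_
      have := (h.symm ▸ Set.mem_univ (⟨x, mem_orbit_self x⟩ : orbit (stabilizer G α) x) :
        (⟨x, mem_orbit_self x⟩ : orbit (stabilizer G α) x) ∈
          fixedPoints (K.subgroupOf (stabilizer G α)) (orbit (stabilizer G α) x))
      exact congrArg Subtype.val (this ⟨⟨k, hle hk⟩, hk⟩)
    intro y hy
    obtain ⟨⟨k', hk'⟩, hky⟩ := hq.exists_smul_eq ⟨x, mem_orbit_self x⟩ ⟨y, hy⟩
    exact ⟨⟨(k' : G), hk'⟩, congrArg Subtype.val hky⟩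

omit hep in
theorem card_orbit_mul_card_inf [Finite G] (α x : Ω) :
    Nat.card (orbit (stabilizer G α) x) * Nat.card ↥(stabilizer G α ⊓ stabilizer G x) =
      Nat.card (stabilizer G α) := by
  rw [Nat.card_coe_set_eq, ← index_stabilizer]
  have e : Nat.card ↥(stabilizer G α ⊓ stabilizer G x) =
      Nat.card (stabilizer (stabilizer G α) x) :=
    Nat.card_congr
      { toFun := fun g => ⟨⟨g, g.2.1⟩, g.2.2⟩
        invFun := fun g => ⟨g, g.1.2, g.2⟩
        left_inv := fun _ => rfl
        right_inv := fun _ => rfl }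
  rw [e, Subgroup.index_mul_card]

omit hep in
theorem card_orbit_comm [Finite G] [IsPretransitive G Ω] (α x : Ω) :
    Nat.card (orbit (stabilizer G α) x) = Nat.card (orbit (stabilizer G x) α) := by
  have h1 := card_orbit_mul_card_inf (G := G) α x
  have h2 := card_orbit_mul_card_inf (G := G) x α
  obtain ⟨g, hg⟩ := exists_smul_eq G α x
  have hc : Nat.card (stabilizer G x) = Nat.card (stabilizer G α) := by
    rw [← hg, stabilizer_smul_eq_stabilizer_map_conj]
    exact (Nat.card_congr (Subgroup.equivMapOfInjective _ _ (MulEquiv.injective _)).toEquiv).symm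
  rw [inf_comm, hc, ← h1] at h2
  exact (Nat.eq_of_mul_eq_mul_right Nat.card_pos h2).symm

omit hep in
theorem orbit_smul_eq (g : G) (α x : Ω) :
    orbit (stabilizer G (g • α)) (g • x) = g • orbit (stabilizer G α) x := by
  ext y
  constructor
  · rintro ⟨⟨h, hh⟩, rfl⟩
    refine ⟨(g⁻¹ * h * g) • x, ⟨⟨g⁻¹ * h * g, ?_⟩, rfl⟩, ?_⟩
    · rw [mem_stabilizer_iff, mul_smul, mul_smul, show h • g • α = g • α from hh, inv_smul_smul]
    · show g • (g⁻¹ * h * g) • x = h • g • x
      simp [mul_smul]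
  · rintro ⟨_, ⟨⟨h, hh⟩, rfl⟩, rfl⟩
    refine ⟨⟨g * h * g⁻¹, ?_⟩, ?_⟩
    · rw [mem_stabilizer_iff, mul_smul, mul_smul, inv_smul_smul, show h • α = α from hh]
    · show (g * h * g⁻¹) • g • x = g • h • x
      simp [mul_smul]

/-- If a normal subgroup of `G_α` fixes `ω ≠ α`, the suborbits it moves are shorter than some other. -/
theorem card_lt_of_moves [Finite Ω] [IsPreprimitive G Ω] [FaithfulSMul G Ω] {α ω x : Ω}
    {K : Subgroup G} (hHα : stabilizer G α ≠ ⊥) (hle : K ≤ stabilizer G α)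
    (hn : stabilizer G α ≤ Subgroup.normalizer (K : Set G))
    (hω : ω ≠ α) (hfix : K ≤ stabilizer G ω) (hx : ∃ k ∈ K, k • x ≠ x) :
    Nat.card (orbit (stabilizer G α) x) < Nat.card (orbit (stabilizer G ω) x) := by
  have hsub : orbit (stabilizer G α) x ⊆ orbit (stabilizer G ω) x := by
    rw [← orbit_eq_of_moves hep hle hn hx]
    rintro _ ⟨⟨k, hk⟩, rfl⟩
    exact ⟨⟨k, hfix hk⟩, rfl⟩
  rw [Nat.card_coe_set_eq, Nat.card_coe_set_eq]
  refine Set.ncard_lt_ncard (hsub.ssubset_of_ne fun heq => ?_)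
  have h1 := stabilizer_le_stabilizer_orbit (stabilizer G ω) x
  rw [← heq] at h1
  have := eq_univ_of_invariant hHα hω.symm ⟨x, mem_orbit_self x⟩
    (stabilizer_le_stabilizer_orbit _ x) h1
  obtain ⟨k, hk, hkx⟩ := hx
  obtain ⟨⟨h, hh⟩, hhx⟩ : α ∈ orbit (stabilizer G α) x := this ▸ Set.mem_univ α
  have hxa : x = α := by
    have hhx' : h • x = α := hhx
    have := congrArg (h⁻¹ • ·) hhx'
    simp only [inv_smul_smul] at this
    rw [this, inv_smul_eq_iff]; exact (mem_stabilizer_iff.1 hh).symm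
  exact hkx (hxa ▸ mem_stabilizer_iff.1 (hle hk))

/-- In an extremely primitive group no non-trivial normal subgroup of a point stabiliser fixes
another point. -/
theorem eq_bot_of_fix [Finite G] [Finite Ω] [IsPreprimitive G Ω] [FaithfulSMul G Ω]
    (hH : ∀ α : Ω, stabilizer G α ≠ ⊥) {α ω : Ω} {K : Subgroup G} (hle : K ≤ stabilizer G α)
    (hn : stabilizer G α ≤ Subgroup.normalizer (K : Set G))
    (hω : ω ≠ α) (hfix : K ≤ stabilizer G ω) : K = ⊥ := by
  classical
  by_contra hK
  haveI : Fintype Ω := Fintype.ofFinite Ω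
  let s : Ω → Ω → ℕ := fun a x => Nat.card (orbit (stabilizer G a) x)
  obtain ⟨⟨a₀, x₀⟩, hmem, hmax⟩ := (Finset.univ.filter fun p : Ω × Ω => p.1 ≠ p.2).exists_max_image
    (fun p => s p.1 p.2) ⟨(α, ω), by simp [hω.symm]⟩
  simp only [Finset.mem_filter, Finset.mem_univ, true_and] at hmem hmax
  set M := s a₀ x₀ with hM
  let P : Ω → Set Ω := fun a => {x | x ≠ a ∧ s a x = M}
  have hs : ∀ (g : G) a x, s (g • a) (g • x) = s a x := fun g a x => by
    simp only [s, orbit_smul_eq]
    rw [Nat.card_coe_set_eq, Nat.card_coe_set_eq, Set.ncard_smul_set]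
  have hstep : ∀ (a b : Ω) (L : Subgroup G), L ≤ stabilizer G a →
      stabilizer G a ≤ Subgroup.normalizer (L : Set G) → b ≠ a → L ≤ stabilizer G b →
      ∀ x ∈ P a, ∀ k ∈ L, k • x = x := by
    intro a b L h1 h2 h3 h4 x hx
    by_contra hmv
    push Not at hmv
    have hbx : b ≠ x := by
      rintro rfl
      obtain ⟨k, hk, hkx⟩ := hmv
      exact hkx (mem_stabilizer_iff.1 (h4 hk))
    have h := card_lt_of_moves hep (hH a) h1 h2 h3 h4 hmv
    have h' := hmax (b, x) hbx
    have e : s a x = M := hx.2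
    simp only [s] at e h' hM
    omega
  let N : Ω → Subgroup G := fun a => fixingSubgroup G (insert a (P a))
  have hNle : ∀ a, N a ≤ stabilizer G a := fun a g hg =>
    (mem_fixingSubgroup_iff G).1 hg a (Set.mem_insert _ _)
  have hNfix : ∀ a, ∀ x ∈ P a, N a ≤ stabilizer G x := fun a x hx g hg =>
    (mem_fixingSubgroup_iff G).1 hg x (Set.mem_insert_of_mem _ hx)
  have hconj : ∀ (g : G) a, ∀ n ∈ N a, g * n * g⁻¹ ∈ N (g • a) := by
    intro g a n hn
    rw [mem_fixingSubgroup_iff]
    intro y hy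
    have hy' : g⁻¹ • y ∈ insert a (P a) := by
      rcases hy with rfl | ⟨hy1, hy2⟩
      · left; exact inv_smul_smul g a
      · right
        refine ⟨fun e => hy1 (by rw [← e, smul_inv_smul]), ?_⟩
        rw [← hs g a, smul_inv_smul]; exact hy2
    have := (mem_fixingSubgroup_iff G).1 hn _ hy'
    rw [mul_smul, mul_smul, this, smul_inv_smul]
  have hNn : ∀ a, stabilizer G a ≤ Subgroup.normalizer (N a : Set G) := fun a => by
    rw [Subgroup.le_normalizer_iff]
    intro g hg n hn
    have := hconj g a n hn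
    rwa [mem_stabilizer_iff.1 hg] at this
  have hKN : K ≤ N α := fun k hk => (mem_fixingSubgroup_iff G).2 fun y hy => by
    rcases hy with rfl | hy
    · exact hle hk
    · exact hstep α ω K hle hn hω hfix y hy k hk
  obtain ⟨γ, hγ⟩ : ∃ γ, γ ∈ P α := by
    obtain ⟨g, hg⟩ := exists_smul_eq G a₀ α
    refine ⟨g • x₀, fun e => hmem ?_, ?_⟩
    · exact (MulAction.injective g (e.trans hg.symm)).symm
    · rw [← hg, hs]
  have hαγ : α ∈ P γ := ⟨hγ.1.symm, by
    show s γ α = M
    rw [← hγ.2]; exact (card_orbit_comm α γ).symm⟩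
  -- every point is fixed by `N α` or by `N γ`
  have hdisj : ∀ x : Ω, (∃ k ∈ N α, k • x ≠ x) → ∀ m ∈ N γ, m • x = x := by
    intro x hxα
    by_contra hxγ
    push Not at hxγ
    have h1 := card_lt_of_moves hep (hH α) (hNle α) (hNn α) hγ.1 (hNfix α γ hγ) hxα
    have h2 := card_lt_of_moves hep (hH γ) (hNle γ) (hNn γ) hαγ.1 (hNfix γ α hαγ) hxγ
    omega
  let Mv : Set Ω := {x | ∃ k ∈ N α, k • x ≠ x}
  have hMv : Mv.Nonempty := by
    by_contra hne
    rw [Set.not_nonempty_iff_eq_empty] at hne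
    refine hK ((Subgroup.eq_bot_iff_forall _).2 fun k hk => eq_of_smul_eq_smul fun x : Ω => ?_)
    rw [one_smul]
    by_contra hkx
    exact (hne ▸ (⟨k, hKN hk, hkx⟩ : x ∈ Mv) : x ∈ (∅ : Set Ω))
  let C : Subgroup G := fixingSubgroup G (insert α Mv)
  have hCle : C ≤ stabilizer G α := fun g hg =>
    (mem_fixingSubgroup_iff G).1 hg α (Set.mem_insert _ _)
  have hCn : stabilizer G α ≤ Subgroup.normalizer (C : Set G) := by
    rw [Subgroup.le_normalizer_iff]
    intro g hg c hc
    refine (mem_fixingSubgroup_iff G).2 fun y hy => ?_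
    rcases hy with rfl | ⟨k, hk, hky⟩
    · exact (stabilizer G y).mul_mem ((stabilizer G y).mul_mem hg (hCle hc))
        ((stabilizer G y).inv_mem hg)
    · have hy' : g⁻¹ • y ∈ Mv := by
        refine ⟨g⁻¹ * k * g, ?_, ?_⟩
        · have h := hconj g⁻¹ α k hk
          rw [inv_inv] at h
          rwa [show g⁻¹ • α = α from inv_smul_eq_iff.2 (mem_stabilizer_iff.1 hg).symm] at h
        · simpa [mul_smul] using hky
      have := (mem_fixingSubgroup_iff G).1 hc _ (Set.mem_insert_of_mem _ hy')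
      rw [mul_smul, mul_smul, this, smul_inv_smul]
  obtain ⟨y, hy⟩ := hMv
  have hyα : y ≠ α := by
    rintro rfl
    obtain ⟨k, hk, hky⟩ := hy
    exact hky (mem_stabilizer_iff.1 (hNle _ hk))
  have hCbot : ∀ c ∈ C, c = 1 := by
    intro c hc
    refine eq_of_smul_eq_smul fun x : Ω => ?_
    rw [one_smul]
    have hcN : c ∈ N α := (mem_fixingSubgroup_iff G).2 fun z hz => by
      rcases hz with rfl | hz
      · exact hCle hc
      · exact hstep α y C hCle hCn hyα
          (fun g hg => (mem_fixingSubgroup_iff G).1 hg y (Set.mem_insert_of_mem _ hy)) z hz c hc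
    by_contra hcx
    exact hcx ((mem_fixingSubgroup_iff G).1 hc x (Set.mem_insert_of_mem _ ⟨c, hcN, hcx⟩))
  -- `N γ` lies in `C`, hence is trivial
  obtain ⟨k, hk, hk1⟩ : ∃ k ∈ K, k ≠ 1 := by
    by_contra h
    push Not at h
    exact hK ((Subgroup.eq_bot_iff_forall _).2 h)
  obtain ⟨g, hg⟩ := exists_smul_eq G α γ
  have hkγ := hconj g α k (hKN hk)
  rw [hg] at hkγ
  have : g * k * g⁻¹ = 1 := hCbot _ ((mem_fixingSubgroup_iff G).2 fun z hz => by
    rcases hz with rfl | hz
    · exact mem_stabilizer_iff.1 (hNfix γ _ hαγ hkγ)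
    · exact hdisj z hz _ hkγ)
  exact hk1 (conj_eq_one_iff.1 this)

/-- A non-trivial normal subgroup of a point stabiliser has the same orbits as the stabiliser. -/
theorem orbit_eq [Finite G] [Finite Ω] [IsPreprimitive G Ω] [FaithfulSMul G Ω]
    (hH : ∀ α : Ω, stabilizer G α ≠ ⊥) {α : Ω} {K : Subgroup G} (hK : K ≠ ⊥)
    (hle : K ≤ stabilizer G α) (hn : stabilizer G α ≤ Subgroup.normalizer (K : Set G)) (x : Ω) :
    orbit K x = orbit (stabilizer G α) x := by
  by_cases hx : x = α
  · subst hx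
    rw [Set.eq_singleton_iff_unique_mem.2 ⟨mem_orbit_self x, ?_⟩,
      Set.eq_singleton_iff_unique_mem.2 ⟨mem_orbit_self x, ?_⟩]
    · rintro _ ⟨⟨h, hh⟩, rfl⟩; exact hh
    · rintro _ ⟨⟨h, hh⟩, rfl⟩; exact hle hh
  · refine orbit_eq_of_moves hep hle hn ?_
    by_contra h
    push Not at h
    exact hK (eq_bot_of_fix hep hH hle hn hx fun k hk => h k hk)

end Cfsg.Agent.Lib.ExtPrim.Basic
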