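import Cfsg.Agent.Lib.ExtPrim.Basic
import Cfsg.Agent.Lib.RecogThree.Derangements

/-! Abelian normal subgroups of a point stabiliser of an extremely primitive group. -/

namespace Cfsg.Agent.Lib.ExtPrim.Suborbit

open MulAction
open scoped Pointwise

/-- A normal subgroup of `H` is normalised by `H` in the ambient group. -/
theorem le_normalizer_map_subtype {G : Type*} [Group G] (H : Subgroup G) (K : Subgroup H) [hK : K.Normal] :
    H ≤ Subgroup.normalizer (K.map H.subtype : Set G) := by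
  rw [Subgroup.le_normalizer_iff]
  rintro g hg _ ⟨v, hv, rfl⟩
  exact ⟨_, hK.conj_mem v hv ⟨g, hg⟩, rfl⟩

variable {G : Type*} [Group G] [Finite G] {Ω : Type*} [Finite Ω] [MulAction G Ω]
  [IsPreprimitive G Ω] [FaithfulSMul G Ω]
  (hep : ∀ (α ω : Ω), IsPreprimitive (stabilizer G α) (orbit (stabilizer G α) ω))
  (hH : ∀ α : Ω, stabilizer G α ≠ ⊥)

include hep hH

/-- An element of `G_α` fixing a non-trivial suborbit pointwise is trivial. -/
theorem eq_one_of_fixes_orbit {α ω : Ω} (hω : ω ≠ α) {g : G} (hg : g ∈ stabilizer G α)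
    (hfix : ∀ y ∈ orbit (stabilizer G α) ω, g • y = y) : g = 1 := by
  let K : Subgroup G := fixingSubgroup G (insert α (orbit (stabilizer G α) ω))
  have hle : K ≤ stabilizer G α := fun g hg =>
    (mem_fixingSubgroup_iff G).1 hg α (Set.mem_insert _ _)
  have hn : stabilizer G α ≤ Subgroup.normalizer (K : Set G) := by
    rw [Subgroup.le_normalizer_iff]
    intro h hh k hk
    refine (mem_fixingSubgroup_iff G).2 fun y hy => ?_
    rcases hy with rfl | hy
    · exact (stabilizer G y).mul_mem ((stabilizer G y).mul_mem hh (hle hk))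
        ((stabilizer G y).inv_mem hh)
    · have hy' : h⁻¹ • y ∈ orbit (stabilizer G α) ω :=
        (smul_orbit (⟨h, hh⟩ : stabilizer G α)⁻¹ ω) ▸
          Set.smul_mem_smul_set (a := (⟨h, hh⟩ : stabilizer G α)⁻¹) hy
      rw [mul_smul, mul_smul, (mem_fixingSubgroup_iff G).1 hk _ (Set.mem_insert_of_mem _ hy'),
        smul_inv_smul]
  have hK := Basic.eq_bot_of_fix hep hH hle hn hω
    fun k hk => (mem_fixingSubgroup_iff G).1 hk ω (Set.mem_insert_of_mem _ (mem_orbit_self ω))
  have hmem : g ∈ K := by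
    refine (mem_fixingSubgroup_iff G).2 fun y hy => ?_
    rcases hy with rfl | hy
    · exact hg
    · exact hfix y hy
  rwa [hK, Subgroup.mem_bot] at hmem

theorem eq_one_of_commute {α ω : Ω} (hω : ω ≠ α) {V : Subgroup G} (hV : V ≠ ⊥)
    (hle : V ≤ stabilizer G α) (hn : stabilizer G α ≤ Subgroup.normalizer (V : Set G))
    {c : G} (hc : c ∈ stabilizer G α) (hcomm : ∀ v ∈ V, c * v = v * c) (hcω : c • ω = ω) : c = 1 :=
  eq_one_of_fixes_orbit hep hH hω hc fun y hy => by
    rw [← Basic.orbit_eq hep hH hV hle hn] at hy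
    obtain ⟨⟨v, hv⟩, rfl⟩ := hy
    show c • v • ω = v • ω
    rw [← mul_smul, hcomm v hv, mul_smul, hcω]

/-- An abelian normal subgroup of a stabiliser contains its centraliser in the stabiliser. -/
theorem centralizer_le {α ω : Ω} (hω : ω ≠ α) {V : Subgroup G} (hV : V ≠ ⊥)
    (hle : V ≤ stabilizer G α) (hn : stabilizer G α ≤ Subgroup.normalizer (V : Set G))
    (hab : ∀ a ∈ V, ∀ b ∈ V, a * b = b * a)
    {c : G} (hc : c ∈ stabilizer G α) (hcomm : ∀ v ∈ V, c * v = v * c) : c ∈ V := by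
  have : c • ω ∈ orbit V ω := by
    rw [Basic.orbit_eq hep hH hV hle hn]; exact ⟨⟨c, hc⟩, rfl⟩
  obtain ⟨⟨v, hv⟩, hvω⟩ := this
  have h1 : v⁻¹ * c = 1 := by
    refine eq_one_of_commute hep hH hω hV hle hn
      ((stabilizer G α).mul_mem ((stabilizer G α).inv_mem (hle hv)) hc) (fun w hw => ?_) ?_
    · rw [mul_assoc, hcomm w hw, ← mul_assoc, hab _ (V.inv_mem hv) _ hw, mul_assoc]
    · rw [mul_smul, ← show v • ω = c • ω from hvω, inv_smul_smul]
  rw [inv_mul_eq_one] at h1
  exact h1 ▸ hv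

/-- An abelian normal subgroup of a stabiliser is regular on each non-trivial suborbit. -/
theorem card_orbit_eq {α ω : Ω} (hω : ω ≠ α) {V : Subgroup G} (hV : V ≠ ⊥)
    (hle : V ≤ stabilizer G α) (hn : stabilizer G α ≤ Subgroup.normalizer (V : Set G))
    (hab : ∀ a ∈ V, ∀ b ∈ V, a * b = b * a) :
    Nat.card (orbit (stabilizer G α) ω) = Nat.card V := by
  rw [← Basic.orbit_eq hep hH hV hle hn ω]
  refine (Nat.card_eq_of_bijective
    (fun v : V => (⟨v • ω, mem_orbit ω v⟩ : orbit V ω)) ⟨?_, ?_⟩).symm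
  · rintro ⟨a, ha⟩ ⟨b, hb⟩ h
    have h' : a • ω = b • ω := congrArg Subtype.val h
    have h1 : b⁻¹ * a = 1 := by
      refine eq_one_of_commute hep hH hω hV hle hn (hle (V.mul_mem (V.inv_mem hb) ha))
        (fun w hw => hab _ (V.mul_mem (V.inv_mem hb) ha) _ hw) ?_
      rw [mul_smul, h', inv_smul_smul]
    exact Subtype.ext (inv_mul_eq_one.1 h1).symm
  · rintro ⟨_, v, rfl⟩; exact ⟨v, rfl⟩

/-- The order of an abelian normal subgroup of a stabiliser divides `n - 1`. -/
theorem card_dvd_card_sub_one {α : Ω} {V : Subgroup G} (hV : V ≠ ⊥)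
    (hle : V ≤ stabilizer G α) (hn : stabilizer G α ≤ Subgroup.normalizer (V : Set G))
    (hab : ∀ a ∈ V, ∀ b ∈ V, a * b = b * a) :
    Nat.card V ∣ Nat.card Ω - 1 := by
  have h := RecogThree.Derangements.dvd_ncard_of_orbits (H := stabilizer G α) ({α}ᶜ : Set Ω)
    (fun h x hx he => hx (by
      have h2 : h⁻¹ • α = α := (h⁻¹).2
      change x = α
      rw [← h2, eq_inv_smul_iff]; exact he))
    (Nat.card V) (fun x hx => (card_orbit_eq hep hH hx hV hle hn hab).symm.dvd)
  rwa [Set.ncard_compl, Set.ncard_singleton] at h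

/-- If the stabiliser has non-trivial centre it has prime order. -/
theorem prime_card_of_center_ne_bot {α : Ω}
    (hZ : Subgroup.center (stabilizer G α) ≠ ⊥) : (Nat.card (stabilizer G α)).Prime := by
  have hnt := Basic.nontrivial_of_stabilizer_ne_bot (hH α)
  obtain ⟨ω, hω⟩ := exists_ne α
  let H := stabilizer G α
  let V : Subgroup G := (Subgroup.center H).map H.subtype
  have hV : V ≠ ⊥ := fun h => hZ ((Subgroup.map_eq_bot_iff_of_injective _ H.subtype_injective).1 h)
  have hle : V ≤ H := Subgroup.map_subtype_le _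
  have hn : H ≤ Subgroup.normalizer (V : Set G) := le_normalizer_map_subtype H _
  haveI := hep α ω
  have hbot : stabilizer H (⟨ω, mem_orbit_self ω⟩ : orbit H ω) = ⊥ := by
    refine (Subgroup.eq_bot_iff_forall _).2 fun c hc => Subtype.ext ?_
    refine eq_one_of_commute hep hH hω hV hle hn c.2 ?_ (congrArg Subtype.val hc)
    rintro _ ⟨z, hz, rfl⟩
    exact congrArg Subtype.val (Subgroup.mem_center_iff.1 hz c)
  haveI : Nontrivial (orbit H ω) := by
    by_contra h
    rw [not_nontrivial_iff_subsingleton] at h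
    refine hH α ((Subgroup.eq_bot_iff_forall _).2 fun g hg =>
      eq_one_of_fixes_orbit hep hH hω hg fun y hy => ?_)
    exact congrArg Subtype.val (Subsingleton.elim
      (⟨g • y, (smul_orbit (⟨g, hg⟩ : H) ω) ▸ Set.smul_mem_smul_set (a := (⟨g, hg⟩ : H)) hy⟩ :
        orbit H ω) ⟨y, hy⟩)
  have hco : IsCoatom (⊥ : Subgroup H) := hbot ▸ IsPreprimitive.isCoatom_stabilizer_of_isPreprimitive H _
  obtain ⟨p, hp, hdvd⟩ := Nat.exists_prime_and_dvd (mt Subgroup.card_eq_one.1 (hH α))
  haveI : Fact p.Prime := ⟨hp⟩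
  obtain ⟨x, hx⟩ := exists_prime_orderOf_dvd_card' p hdvd
  have htop : Subgroup.zpowers x = ⊤ := hco.2 _ (bot_lt_iff_ne_bot.2 (by
    rw [Subgroup.zpowers_ne_bot]; intro h; rw [h, orderOf_one] at hx; exact hp.ne_one hx.symm))
  have : Nat.card (⊤ : Subgroup H) = p := by rw [← htop, Nat.card_zpowers, hx]
  rw [Subgroup.card_top] at this
  show (Nat.card H).Prime
  rw [this]; exact hp

end Cfsg.Agent.Lib.ExtPrim.Suborbit
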